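import Mathlib

set_option linter.unusedSectionVars false
set_option linter.unusedVariables false
set_option autoImplicit false
set_option maxHeartbeats 400000

noncomputable section

namespace Groth.Agent.Lib.Helper6.TriGen

open CategoryTheory CategoryTheory.Limits CategoryTheory.ObjectProperty Pretriangulated

universe v u

variable {C : Type u} [Category.{v} C] [HasZeroObject C] [HasShift C ℤ] [Preadditive C]
  [∀ (n : ℤ), (shiftFunctor C n).Additive] [Pretriangulated C]

/-- the point of a limit cone over a discrete pair is the product of the values -/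
def pointIso {X : C} {P : ObjectProperty C} (p : P.LimitOfShape (Discrete WalkingPair) X) :
    (∏ᶜ fun j : WalkingPair => p.diag.obj ⟨j⟩) ≅ X :=
  IsLimit.conePointUniqueUpToIso (productIsProduct (fun j : WalkingPair => p.diag.obj ⟨j⟩))
    ((IsLimit.postcomposeHomEquiv (Discrete.natIsoFunctor (F := p.diag)) _).2 p.isLimit)

theorem ext_closed (P Q : ObjectProperty C) [P.IsClosedUnderBinaryProducts]
    [Q.IsClosedUnderBinaryProducts] : (extensionProduct P Q).IsClosedUnderBinaryProducts where
  limitsOfShape_le := by
    rintro X ⟨p⟩
    choose Y Z f g h hT hP hQ using (fun j : WalkingPair => p.prop_diag_obj ⟨j⟩)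
    let T : WalkingPair → Triangle C := fun j => Triangle.mk (f j) (g j) (h j)
    have hd := productTriangle_distinguished T hT
    refine (extensionProduct P Q).prop_of_iso (pointIso p)
      ⟨_, _, _, _, _, hd, P.prop_pi _ hP, Q.prop_pi _ hQ⟩

theorem retract_closed (P : ObjectProperty C) [P.IsClosedUnderBinaryProducts] :
    P.retractClosure.IsClosedUnderBinaryProducts where
  limitsOfShape_le := by
    rintro X ⟨p⟩
    choose A hA r using (fun j : WalkingPair => p.prop_diag_obj ⟨j⟩)
    have r' : ∀ j, Retract (p.diag.obj ⟨j⟩) (A j) := fun j => (r j).some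
    refine P.retractClosure.prop_of_iso (pointIso p) ?_
    refine ⟨∏ᶜ A, P.prop_pi _ hA, ⟨?_⟩⟩
    exact
      { i := Limits.Pi.map (fun j => (r' j).i)
        r := Limits.Pi.map (fun j => (r' j).r)
        retract := by
          ext j
          simp }

theorem envIter_closed (P : ObjectProperty C) (n : ℕ) :
    (P.triangEnvelopeIter n).IsClosedUnderBinaryProducts := by
  induction n with
  | zero =>
    rw [triangEnvelopeIter_zero]
    exact retract_closed _
  | succ n ih =>
    rw [triangEnvelopeIter_succ]
    haveI := ih
    haveI : ((P.shiftClosure ℤ).binaryProductsClosure.retractClosure).IsClosedUnderBinaryProducts :=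
      retract_closed _
    haveI := ext_closed ((P.shiftClosure ℤ).binaryProductsClosure.retractClosure)
      (P.triangEnvelopeIter n)
    exact retract_closed _

end Groth.Agent.Lib.Helper6.TriGen
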