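import Mathlib
import Groth.Agent.Lib.Helper6.TriGen.Basic

set_option linter.unusedSectionVars false
set_option linter.unusedVariables false
set_option autoImplicit false
set_option maxHeartbeats 400000

noncomputable section

namespace Groth.Agent.Lib.Helper6.TriGen

open CategoryTheory CategoryTheory.Limits CategoryTheory.ObjectProperty Pretriangulated

universe v u

variable {C : Type u} [Category.{v} C] [HasZeroObject C] [HasShift C ℤ] [Preadditive C]
  [∀ (n : ℤ), (shiftFunctor C n).Additive] [Pretriangulated C] [IsTriangulated C]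

theorem envIter_zero_le (P Q : ObjectProperty C) [Q.Nonempty] (m : ℕ)
    (h : P ≤ Q.triangEnvelopeIter m) :
    P.triangEnvelopeIter 0 ≤ Q.triangEnvelopeIter m := by
  haveI := envIter_closed Q m
  haveI : (Q.triangEnvelopeIter m).ContainsZero := inferInstance
  rw [triangEnvelopeIter_zero, retractClosure_le_iff, binaryProductsClosure_le_iff,
    shiftClosure_le_iff]
  exact h

theorem envIter_le (P Q : ObjectProperty C) [Q.Nonempty] (m : ℕ)
    (h : P ≤ Q.triangEnvelopeIter m) (n : ℕ) :
    P.triangEnvelopeIter n ≤ Q.triangEnvelopeIter (n * (m + 1) + m) := by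
  induction n with
  | zero =>
    rw [Nat.zero_mul, Nat.zero_add]
    exact envIter_zero_le P Q m h
  | succ n ih =>
    rw [triangEnvelopeIter_succ]
    have h0 := envIter_zero_le P Q m h
    rw [triangEnvelopeIter_zero] at h0
    have heq : (n + 1) * (m + 1) + m = (m + 1) + (n * (m + 1) + m) := by ring
    rw [heq, triangEnvelopeIter_add Q (n := m + 1) (n' := m) rfl]
    apply monotone_retractClosure
    exact (monotone_extensionProduct_left _ h0).trans (monotone_extensionProduct_right _ ih)

theorem strong_of_classical' (PG PE : ObjectProperty C) (G E : C) (hPG : ∀ X, PG X ↔ X = G)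
    (hPE : ∀ X, PE X ↔ X = E)
    (hG : PG.IsStrongTriangulatedGenerator)
    (hE : PE.IsClassicalTriangulatedGenerator) :
    PE.IsStrongTriangulatedGenerator := by
  obtain ⟨n, hn⟩ := hG
  have hGE : PE.triangEnvelope G := by
    rw [isClassicalTriangulatedGenerator_iff] at hE
    rw [hE]
    trivial
  rw [prop_triangEnvelope_iff] at hGE
  obtain ⟨m, hm⟩ := hGE
  haveI : PE.Nonempty := ⟨E, (hPE E).mpr rfl⟩
  have hle : PG ≤ PE.triangEnvelopeIter m := by
    intro X hX
    have : X = G := (hPG X).mp hX
    rw [this]
    exact hm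
  refine ⟨n * (m + 1) + m, ?_⟩
  rw [eq_top_iff, ← hn]
  exact envIter_le _ _ m hle n

theorem strong_of_classical (G E : C)
    (hG : ObjectProperty.IsStrongTriangulatedGenerator (fun X : C => X = G))
    (hE : ObjectProperty.IsClassicalTriangulatedGenerator (fun X : C => X = E)) :
    ObjectProperty.IsStrongTriangulatedGenerator (fun X : C => X = E) :=
  strong_of_classical' (fun X : C => X = G) (fun X : C => X = E) G E (fun _ => Iff.rfl)
    (fun _ => Iff.rfl) hG hE

end Groth.Agent.Lib.Helper6.TriGen
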